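import Groth.Agent.FibDim.RelDim
import Groth.Agent.FibDim.Semicont
import Groth.Agent.DimFormula.ClosedSub
import Groth.Agent.H23.RedSub

/-! The points near which a closed set has fibres of dimension at least `n`. -/

set_option autoImplicit false
set_option backward.isDefEq.respectTransparency false
set_option backward.isDefEq.respectTransparency.types false

universe u

open CategoryTheory AlgebraicGeometry TopologicalSpace

namespace Groth.Agent.FlatDim

variable {X Y : Scheme.{u}} (f : X ⟶ Y)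

/-- The points in the closure, inside their fibre, of a point of `Z` of relative dimension `≥ n`. -/
def bad (Z : Set X) (n : ℕ) : Set X := {x | ∃ z ∈ Z, z ⤳ x ∧ f z = f x ∧ n ≤ FibDim.rd f z}

theorem mem_bad_of_mem {Z : Set X} {n : ℕ} {x : X} (hx : x ∈ Z) (h : n ≤ FibDim.rd f x) : x ∈ bad f Z n :=
  ⟨x, hx, specializes_rfl, rfl, h⟩

theorem isClosed_bad [LocallyOfFiniteType f] (Z : Closeds X) (n : ℕ) : IsClosed (bad f (Z : Set X) n) := by
  let I := Scheme.IdealSheafData.vanishingIdeal Z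
  let ι := I.subschemeι
  have hr : Set.range ι = (Z : Set X) := H23.RedSub.range_vanishingIdeal Z
  have h : bad f (Z : Set X) n = ι '' {w | (((n : ℕ∞)) : WithBot ℕ∞) ≤ FlatMor.fibreDimAt (ι ≫ f) w} := by
    ext x
    constructor
    · rintro ⟨z, hz, hzx, hf, hn⟩
      obtain ⟨w, rfl⟩ := hr.ge (hzx.mem_closed Z.2 hz)
      obtain ⟨v, rfl⟩ := hr.ge hz
      refine ⟨w, le_trans ?_ (FibDim.rd_le_fibreDimAt (ι ≫ f)
        (ι.isClosedEmbedding.isInducing.specializes_iff.1 hzx) hf), rfl⟩
      rw [DimFormula.rd_closedSub]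
      exact_mod_cast hn
    · rintro ⟨w, hw, rfl⟩
      obtain ⟨z, hzw, hf, -, he⟩ := FibDim.exists_fibMax_generization (ι ≫ f) w
      refine ⟨ι z, hr.le ⟨z, rfl⟩, hzw.map ι.continuous, hf, ?_⟩
      rw [← DimFormula.rd_closedSub f ι z]
      rw [Set.mem_setOf_eq, he] at hw
      exact_mod_cast hw
  rw [h]
  refine ι.isClosedEmbedding.isClosedMap _ ?_
  rcases n with _ | m
  · convert isClosed_univ using 1
    refine Set.eq_univ_of_forall fun w => ?_
    obtain ⟨z, -, -, -, he⟩ := FibDim.exists_fibMax_generization (ι ≫ f) w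
    rw [Set.mem_setOf_eq, he]
    exact_mod_cast Nat.zero_le _
  · rw [show {w | (((m + 1 : ℕ) : ℕ∞) : WithBot ℕ∞) ≤ FlatMor.fibreDimAt (ι ≫ f) w} =
        {w | FlatMor.fibreDimAt (ι ≫ f) w ≤ m}ᶜ from ?_]
    · exact (FibDim.isOpen_fibreDimAt_le (ι ≫ f) m).isClosed_compl
    ext w
    obtain ⟨z, -, -, -, he⟩ := FibDim.exists_fibMax_generization (ι ≫ f) w
    rw [Set.mem_setOf_eq, Set.mem_compl_iff, Set.mem_setOf_eq, he]
    norm_cast
    omega

end Groth.Agent.FlatDim
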