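import Groth.Agent.FlatDim.Bad
import Groth.Agent.FlatProper5.General
import Groth.Agent.ConsPropLib.Cores
import Groth.Agent.MorLib.FlatBC
import Groth.Agent.FibDim.BaseChange

/-! Flatness in dimensions at least `n` descends to a stage of a limit. -/

set_option autoImplicit false
set_option backward.isDefEq.respectTransparency false
set_option backward.isDefEq.respectTransparency.types false
set_option linter.style.haveILetI false

universe u

open CategoryTheory CategoryTheory.Limits AlgebraicGeometry TopologicalSpace Opposite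

namespace Groth.Agent.FlatDim

theorem flatDimGE_stage {I : Type u} [SmallCategory I] [IsCofiltered I] {D : I ⥤ Scheme.{u}} {c : Cone D}
    [∀ {i j : I} (f : i ⟶ j), IsAffineHom (D.map f)] (hc : IsLimit c) {i : I} {X₀ Xp : Scheme.{u}}
    {a₀ : X₀ ⟶ D.obj i} [LocallyOfFinitePresentation a₀] [CompactSpace X₀] [CompactSpace Xp] {q : Xp ⟶ X₀}
    {f : Xp ⟶ c.pt} [QuasiCompact f]
    (hsq : IsPullback q f a₀ (c.π.app i)) {F : X₀.Modules} (hF : Coh.IsQCoh F) (hFp : CohB1.IsFP F) (n : ℕ)
    (h : ∀ x, ¬ FlatMod.IsFlatOverAt f ((Scheme.Modules.pullback q).obj F) x → FibDim.rd f x < n) :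
    ∃ k : Over i, ∀ y, ¬ FlatMod.IsFlatOverAt (pullback.snd a₀ (D.map k.hom))
      ((Scheme.Modules.pullback (pullback.fst a₀ (D.map k.hom))).obj F) y →
        FibDim.rd (pullback.snd a₀ (D.map k.hom)) y < n := by
  classical
  let DX := MorLib.BC.diag D a₀
  let p := MorLib.BC.proj D a₀ hsq
  let fk : ∀ k : Over i, DX.obj k ⟶ D.obj k.left := fun k => pullback.snd a₀ (D.map k.hom)
  let Fk : ∀ k : Over i, (DX.obj k).Modules := fun k => (Scheme.Modules.pullback (pullback.fst a₀ (D.map k.hom))).obj F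
  haveI : ∀ k, LocallyOfFinitePresentation (fk k) := fun k => MorphismProperty.pullback_snd _ _ inferInstance
  haveI : LocallyOfFinitePresentation f := MorphismProperty.of_isPullback hsq inferInstance
  have hFq := QCoh.isQCoh_pullback q hF
  have hopen : ∀ k, IsOpen {y | FlatMod.IsFlatOverAt (fk k) (Fk k) y} := fun k => by
    haveI := QCoh.isQCoh_pullback (pullback.fst a₀ (D.map k.hom)) hF
    exact S4863.result (fk k) (Fk k) (LimModLib.isFP_pullback _ hF hFp)
  let Z : ∀ k, Closeds (DX.obj k) := fun k => ⟨{y | FlatMod.IsFlatOverAt (fk k) (Fk k) y}ᶜ, (hopen k).isClosed_compl⟩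
  let G : ∀ k, (DX.obj k).Opens := fun k => ⟨(bad (fk k) (Z k) n)ᶜ, (isClosed_bad (fk k) (Z k) n).isOpen_compl⟩
  -- monotonicity
  have mono : ∀ ⦃j k : Over i⦄ (ψ : k ⟶ j) (y : DX.obj k), DX.map ψ y ∈ G j → y ∈ G k := by
    intro j k ψ y hy hbad
    obtain ⟨z, hz, hzy, hfz, hn⟩ := hbad
    have hsq' := MorLib.BC.isPullback_map D a₀ ψ
    refine hy ⟨DX.map ψ z, fun hfl => hz ?_, hzy.map (DX.map ψ).continuous, ?_,
      hn.trans (FibDim.rd_baseChange_le hsq' z)⟩
    · exact GrFlat5.isFlatOverAt_of_iso _ ((FlatPt5.stepIso ψ).app F) _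
        (MorLib.FlatBC.isFlatOverAt_baseChange _ _ _ _ hsq' _ z hfl)
    · have hw : ∀ w, fk j (DX.map ψ w) = D.map ψ.left (fk k w) := fun w => congr($(hsq'.w) w)
      rw [hw, hw, hfz]
  -- every point of the limit is good at some stage
  have hpt : ∀ x : Xp, ∃ k, p k x ∈ G k := by
    intro x
    let K : Set Xp := {w | FlatMod.IsFlatOverAt f ((Scheme.Modules.pullback q).obj F) w} ∩ f ⁻¹' {f x}
    haveI : NoetherianSpace ↥(f ⁻¹' {f x}) := by
      haveI : IsLocallyNoetherian (f.fiber (f x)) :=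
        LocallyOfFiniteType.isLocallyNoetherian (f.fiberToSpecResidueField (f x))
      haveI : CompactSpace ↥(f.fiber (f x)) :=
        QuasiCompact.compactSpace_of_compactSpace (f.fiberToSpecResidueField (f x))
      haveI : IsNoetherian (f.fiber (f x)) := ⟨⟩
      exact (noetherianSpace_iff_of_homeomorph (f.fiberHomeo (f x))).1 inferInstance
    have hK : IsCompact K := by
      have := (NoetherianSpace.isCompact ((Subtype.val : ↥(f ⁻¹' {f x}) → Xp) ⁻¹'
        {w | FlatMod.IsFlatOverAt f ((Scheme.Modules.pullback q).obj F) w})).image continuous_subtype_val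
      rwa [Set.image_preimage_eq_inter_range, Subtype.range_coe] at this
    obtain ⟨k, hk⟩ := FlatProper5.exists_flatAt_stage_compact hc hsq hF hFp hK fun w hw => hw.1
    refine ⟨k, fun hbad => ?_⟩
    obtain ⟨z, hz, hzx, hfz, hn⟩ := hbad
    let ι := (Scheme.IdealSheafData.vanishingIdeal (Z k)).subschemeι
    have hr : Set.range ι = (Z k : Set (DX.obj k)) := H23.RedSub.range_vanishingIdeal (Z k)
    obtain ⟨w, hw⟩ := hr.ge (hzx.mem_closed (Z k).2 hz)
    obtain ⟨v, rfl⟩ := hr.ge hz
    let Q := pullback ι (p k)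
    have hQ : IsPullback (pullback.fst ι (p k)) (pullback.snd ι (p k) ≫ f) (ι ≫ fk k) (c.π.app k.left) :=
      (IsPullback.of_hasPullback ι (p k)).paste_vert (MorLib.BC.isPullback_proj D a₀ hsq k)
    obtain ⟨w', hw1, hw2⟩ := Scheme.exists_preimage_of_isPullback (IsPullback.of_hasPullback ι (p k)) w x hw
    haveI : LocallyOfFiniteType (pullback.snd ι (p k) ≫ f) := MorphismProperty.of_isPullback hQ inferInstance
    have h1 : (((n : ℕ∞)) : WithBot ℕ∞) ≤ FlatMor.fibreDimAt (pullback.snd ι (p k) ≫ f) w' := by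
      rw [FibDim.fibreDimAt_baseChange hQ, hw1]
      refine le_trans ?_ (FibDim.rd_le_fibreDimAt (ι ≫ fk k)
        (ι.isClosedEmbedding.isInducing.specializes_iff.1 (hw ▸ hzx)) (show fk k (ι v) = fk k (ι w) by rw [hw]; exact hfz))
      rw [DimFormula.rd_closedSub]
      exact_mod_cast hn
    obtain ⟨u, -, hfu, -, he⟩ := FibDim.exists_fibMax_generization (pullback.snd ι (p k) ≫ f) w'
    rw [he, DimFormula.rd_closedSub] at h1
    have hu : pullback.snd ι (p k) u ∈ K := by
      refine ⟨by_contra fun hnf => ?_, ?_⟩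
      · have h2 := h _ hnf
        have h3 : n ≤ FibDim.rd f (pullback.snd ι (p k) u) := by exact_mod_cast h1
        omega
      · show f (pullback.snd ι (p k) u) = f x
        rw [← hw2]
        exact hfu
    have h4 : p k (pullback.snd ι (p k) u) ∈ (Z k : Set (DX.obj k)) :=
      hr.le ⟨pullback.fst ι (p k) u, congr($(pullback.condition (f := ι) (g := p k)) u)⟩
    exact h4 (hk _ hu)
  -- a uniform stage
  haveI : Nonempty (Over i) := ⟨Over.mk (𝟙 i)⟩
  obtain ⟨j, hj⟩ := isCompact_univ.elim_directed_cover (fun k => ((p k ⁻¹ᵁ G k : Xp.Opens) : Set Xp))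
    (fun k => (p k ⁻¹ᵁ G k).2) (fun x _ => Set.mem_iUnion.2 (hpt x)) fun a b =>
      ⟨IsCofiltered.min a b,
        fun x hx => mono (IsCofiltered.minToLeft a b) _ (by
          show _ ∈ G a
          rw [FlatPt5.proj_map_apply hsq]; exact hx),
        fun x hx => mono (IsCofiltered.minToRight a b) _ (by
          show _ ∈ G b
          rw [FlatPt5.proj_map_apply hsq]; exact hx)⟩
  haveI : CompactSpace (DX.obj j) := MorLib.BC.compactSpace_obj D a₀ j
  obtain ⟨l, φ, hl⟩ := ConsPropLib.exists_stage_subset hc (i := j.left) (fk j)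
    (MorLib.BC.isPullback_proj D a₀ hsq j) (B := (G j : Set (DX.obj j))) (MorLib.LimCons.ind_of_isOpen (G j).2)
    fun x => hj (Set.mem_univ x)
  let k : Over i := Over.mk (φ ≫ j.hom)
  let ψ : k ⟶ j := Over.homMk φ rfl
  refine ⟨k, fun y hy => not_le.1 fun hn => ?_⟩
  have hψ := MorLib.BC.isPullback_map D a₀ ψ
  have e : hψ.isoPullback.hom ≫ pullback.fst (fk j) (D.map φ) = DX.map ψ := hψ.isoPullback_hom_fst
  have h5 : (hψ.isoPullback.hom ≫ pullback.fst (fk j) (D.map φ)) y ∈ G j := hl (hψ.isoPullback.hom y)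
  rw [e] at h5
  exact mono ψ y h5 (mem_bad_of_mem (fk k) hy hn)

end Groth.Agent.FlatDim
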